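import Mathlib

/-!
# Maximal points of closed subsets of Noetherian sober spaces
-/

set_option autoImplicit false

universe u

open TopologicalSpace AlgebraicGeometry

namespace Groth.Agent.VarLib

theorem finite_maximal_points {α : Type u} [TopologicalSpace α] [QuasiSober α] [T0Space α]
    [NoetherianSpace α] {C : Set α} (hC : IsClosed C) :
    {ξ | ξ ∈ C ∧ ∀ η ∈ C, η ⤳ ξ → η = ξ}.Finite := by
  obtain ⟨S, hSf, hSc, hSi, hSU⟩ := NoetherianSpace.exists_finite_set_isClosed_irreducible hC
  let g : Set α → Set α := fun t => {x | IsGenericPoint x t}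
  refine (hSf.biUnion (t := g) fun t _ => Set.Subsingleton.finite fun x hx y hy =>
    (hx.eq hy)).subset ?_
  rintro ξ ⟨hξ, hmax⟩
  rw [hSU] at hξ
  obtain ⟨t, ht, hξt⟩ := hξ
  obtain ⟨η, hη⟩ := QuasiSober.sober (hSi t ht) (hSc t ht)
  have h1 : η ⤳ ξ := hη.specializes hξt
  have h2 : η ∈ C := hSU ▸ ⟨t, ht, hη.mem⟩
  exact Set.mem_biUnion ht (hmax η h2 h1 ▸ hη)

theorem isClosed_singleton_of_dim_le_one {X : Scheme.{u}} [IrreducibleSpace X]
    (hX : topologicalKrullDim X ≤ 1) {x : X} (hx : x ≠ genericPoint X) :
    IsClosed ({x} : Set X) := by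
  rw [← closure_subset_iff_isClosed]
  intro y hy
  by_contra hne
  let a : IrreducibleCloseds X := ⟨closure {y}, isIrreducible_singleton.closure, isClosed_closure⟩
  let b : IrreducibleCloseds X := ⟨closure {x}, isIrreducible_singleton.closure, isClosed_closure⟩
  let c : IrreducibleCloseds X := ⟨Set.univ, IrreducibleSpace.isIrreducible_univ X, isClosed_univ⟩
  have hab : a < b := by
    refine lt_of_le_of_ne (closure_minimal (Set.singleton_subset_iff.2 hy) isClosed_closure) ?_
    intro h
    have h' : closure ({y} : Set X) = closure {x} := congrArg (fun s : IrreducibleCloseds X => (s : Set X)) h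
    exact hne (inseparable_iff_closure_eq.2 h').eq
  have hbc : b < c := by
    refine lt_of_le_of_ne (Set.subset_univ _) ?_
    intro h
    have h' : closure ({x} : Set X) = Set.univ := congrArg (fun s : IrreducibleCloseds X => (s : Set X)) h
    have h1 : IsGenericPoint x (⊤ : Set X) := h'
    exact hx (h1.eq (genericPoint_spec X))
  let p : LTSeries (IrreducibleCloseds X) := ((RelSeries.singleton _ a).snoc b hab).snoc c (by simpa using hbc)
  have h2 : ((2 : ℕ) : WithBot ℕ∞) ≤ topologicalKrullDim X := by
    have := Order.LTSeries.length_le_krullDim p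
    show _ ≤ Order.krullDim (IrreducibleCloseds X)
    simpa [p] using this
  have := h2.trans hX
  exact absurd (WithBot.coe_le_coe.1 this) (by decide)

theorem noetherianSpace_of_isAffineOpen {X : Scheme.{u}} [IsLocallyNoetherian X] {V : X.Opens}
    (hV : IsAffineOpen V) : NoetherianSpace V := by
  have : IsNoetherianRing Γ(X, V) := IsLocallyNoetherian.component_noetherian ⟨V, hV⟩
  exact AlgebraicGeometry.noetherianSpace_of_isAffineOpen V hV

end Groth.Agent.VarLib
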